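import Cfsg.Agent.Lib.Sporadic.HNAlt.Defs

/-!
# Kernel checks for some of the ten elements
-/

set_option autoImplicit false
set_option maxRecDepth 100000

namespace CfsgLib.Sporadic.CosetCert.HNAlt

theorem rels_okB : ((List.range' 2 3).all relOK) = true := by decide +kernel

end CfsgLib.Sporadic.CosetCert.HNAlt
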