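import Cfsg.Agent.Lib.Sporadic.HNAlt.Defs

/-!
# Kernel checks for some of the ten elements
-/

set_option autoImplicit false
set_option maxRecDepth 100000

namespace CfsgLib.Sporadic.CosetCert.HNAlt

theorem rels_okC : ((List.range' 5 5).all relOK) = true := by decide +kernel

theorem elt_ne_one : PackedMatrix.eqList (eltOf 0) (PackedMatrix.one 133) = false := by decide +kernel

end CfsgLib.Sporadic.CosetCert.HNAlt
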