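import Cfsg.Agent.Lib.Sporadic.HNAlt.Defs

/-!
# Kernel checks of the products of the segments, part A
-/

set_option autoImplicit false
set_option maxRecDepth 100000

namespace CfsgLib.Sporadic.CosetCert.HNAlt

theorem seg_ok0_0 : segOK 0 0 = true := by decide +kernel

theorem seg_ok1_0 : segOK 1 0 = true := by decide +kernel

theorem seg_ok2_0 : segOK 2 0 = true := by decide +kernel

theorem seg_ok3_0 : segOK 3 0 = true := by decide +kernel

theorem seg_ok4_0 : segOK 4 0 = true := by decide +kernel

theorem seg_ok5_0 : segOK 5 0 = true := by decide +kernel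

theorem lasts_ok : ((List.range 10).all lastOK) = true := by decide +kernel

theorem part_lengths : (List.range 10).map (fun i => (partOf i).length) = [1, 1, 1, 1, 1, 1, 5, 5, 4, 4] := by decide +kernel


end CfsgLib.Sporadic.CosetCert.HNAlt
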