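import Cfsg.Agent.Lib.Sporadic.HNAlt.Defs

/-!
# Kernel checks of the products of the segments, part B
-/

set_option autoImplicit false
set_option maxRecDepth 100000

namespace CfsgLib.Sporadic.CosetCert.HNAlt

theorem seg_ok6_0 : segOK 6 0 = true := by decide +kernel

theorem seg_ok6_1 : segOK 6 1 = true := by decide +kernel

theorem seg_ok6_2 : segOK 6 2 = true := by decide +kernel

theorem seg_ok6_3 : segOK 6 3 = true := by decide +kernel

theorem seg_ok6_4 : segOK 6 4 = true := by decide +kernel


end CfsgLib.Sporadic.CosetCert.HNAlt
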