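import Cfsg.Agent.Lib.Sporadic.HNAlt.Defs

/-!
# Kernel checks of the products of the segments, part E
-/

set_option autoImplicit false
set_option maxRecDepth 100000

namespace CfsgLib.Sporadic.CosetCert.HNAlt

theorem seg_ok9_0 : segOK 9 0 = true := by decide +kernel

theorem seg_ok9_1 : segOK 9 1 = true := by decide +kernel

theorem seg_ok9_2 : segOK 9 2 = true := by decide +kernel

theorem seg_ok9_3 : segOK 9 3 = true := by decide +kernel


end CfsgLib.Sporadic.CosetCert.HNAlt
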