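import Cfsg.Agent.Lib.Sporadic.HNIndex.ColCheck
import Cfsg.Agent.Lib.Sporadic.HNAlt.Data

/-!
# Definitions for the kernel checks on ten elements with Carmichael's relations
-/

set_option autoImplicit false
set_option maxRecDepth 100000

namespace CfsgLib.Sporadic.CosetCert.HNAlt

open PackedMatrix HNDouble HNIndex

/-- The segments of an element. -/
noncomputable def partOf (i : ℕ) : List (List ℕ × List ℕ) := parts.getD i []

/-- The product after `k` segments. -/
noncomputable def midOf (i : ℕ) : ℕ → List ℕ
  | 0 => PackedMatrix.one 133
  | k + 1 => ((partOf i).getD k ([], [])).2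

/-- The word of an element. -/
noncomputable def wordOf (i : ℕ) : List ℕ := ((partOf i).map fun e => e.1).flatten

/-- The matrix of an element. -/
noncomputable def eltOf (i : ℕ) : List ℕ := elts.getD i []

/-- A segment leads from one product to the next. -/
noncomputable def segOK (i k : ℕ) : Bool :=
  ok 19 133 (midOf i (k + 1)) && mulWord ((partOf i).getD k ([], [])).1 (midOf i k) fun R => eqList R (midOf i (k + 1))

/-- The last product is the matrix of the element. -/
noncomputable def lastOK (i : ℕ) : Bool :=
  ok 19 133 (eltOf i) && eqList (midOf i (partOf i).length) (eltOf i)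

/-- The relations between an element and the later ones. -/
noncomputable def relOK (i : ℕ) : Bool :=
  pow1 [eltOf i] 3 && (List.range 10).all fun j => Nat.ble j i || pow1 [eltOf i, eltOf j] 2

end CfsgLib.Sporadic.CosetCert.HNAlt
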