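import Cfsg.Agent.Lib.Presentations.Carmichael
import Cfsg.Agent.Lib.Sporadic.HNIndex.Simple
import Cfsg.Agent.Lib.Sporadic.HNAlt.CheckWordsA
import Cfsg.Agent.Lib.Sporadic.HNAlt.CheckWordsB
import Cfsg.Agent.Lib.Sporadic.HNAlt.CheckWordsC
import Cfsg.Agent.Lib.Sporadic.HNAlt.CheckWordsD
import Cfsg.Agent.Lib.Sporadic.HNAlt.CheckWordsE
import Cfsg.Agent.Lib.Sporadic.HNAlt.CheckRelsA
import Cfsg.Agent.Lib.Sporadic.HNAlt.CheckRelsB
import Cfsg.Agent.Lib.Sporadic.HNAlt.CheckRelsC

/-!
# An alternating subgroup of degree twelve in the Harada-Norton group and the action on its cosets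
-/

set_option autoImplicit false
set_option maxRecDepth 100000

namespace CfsgLib.Sporadic.CosetCert.HNAlt

open PackedMatrix Cfsg.Spor HNDouble HNIndex CfsgLib.Presentations

attribute [local irreducible] PackedMatrix.mul PackedMatrix.ok PackedMatrix.one dig dec red rowMul
  mX mXi mY mYi mZ mT mTi mV words parts elts eqList powOne chain

/-- An element of the list. -/
noncomputable def el (i : ℕ) : HN := ((wordOf i).map gen7).prod

theorem all_range {f : ℕ → Bool} {a n i : ℕ} (h : (List.range' a n).all f = true) (h1 : a ≤ i)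
    (h2 : i < a + n) : f i = true :=
  List.all_eq_true.1 h i (List.mem_range'_1.2 ⟨h1, h2⟩)

theorem segs_ok {i k : ℕ} (hi : i < 10) (hk : k < (partOf i).length) : segOK i k = true := by
  have e : (partOf i).length = [1, 1, 1, 1, 1, 1, 5, 5, 4, 4].getD i 0 := by
    rw [← part_lengths, List.getD_eq_getElem _ _ (by simpa using hi)]
    simp
  rw [e] at hk
  match i, hi with
  | 0, _ =>
    match k, hk with
    | 0, _ => exact seg_ok0_0
    | k + 1, h => simp at h
  | 1, _ =>
    match k, hk with
    | 0, _ => exact seg_ok1_0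
    | k + 1, h => simp at h
  | 2, _ =>
    match k, hk with
    | 0, _ => exact seg_ok2_0
    | k + 1, h => simp at h
  | 3, _ =>
    match k, hk with
    | 0, _ => exact seg_ok3_0
    | k + 1, h => simp at h
  | 4, _ =>
    match k, hk with
    | 0, _ => exact seg_ok4_0
    | k + 1, h => simp at h
  | 5, _ =>
    match k, hk with
    | 0, _ => exact seg_ok5_0
    | k + 1, h => simp at h
  | 6, _ =>
    match k, hk with
    | 0, _ => exact seg_ok6_0
    | 1, _ => exact seg_ok6_1
    | 2, _ => exact seg_ok6_2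
    | 3, _ => exact seg_ok6_3
    | 4, _ => exact seg_ok6_4
    | k + 5, h => simp at h
  | 7, _ =>
    match k, hk with
    | 0, _ => exact seg_ok7_0
    | 1, _ => exact seg_ok7_1
    | 2, _ => exact seg_ok7_2
    | 3, _ => exact seg_ok7_3
    | 4, _ => exact seg_ok7_4
    | k + 5, h => simp at h
  | 8, _ =>
    match k, hk with
    | 0, _ => exact seg_ok8_0
    | 1, _ => exact seg_ok8_1
    | 2, _ => exact seg_ok8_2
    | 3, _ => exact seg_ok8_3
    | k + 4, h => simp at h
  | 9, _ =>
    match k, hk with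
    | 0, _ => exact seg_ok9_0
    | 1, _ => exact seg_ok9_1
    | 2, _ => exact seg_ok9_2
    | 3, _ => exact seg_ok9_3
    | k + 4, h => simp at h
  | i + 10, h => omega

theorem elt_spec {i : ℕ} (hi : i < 10) :
    ok 19 133 (eltOf i) = true ∧ ((rho (el i) : M133ˣ) : M133) = md (eltOf i) := by
  have key : ∀ k ≤ (partOf i).length, ok 19 133 (midOf i k) = true ∧
      md (midOf i k) =
        ((rho ((((partOf i).take k).map fun e => e.1).flatten.map gen7).prod : M133ˣ) : M133) := by
    intro k
    induction k with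
    | zero =>
      intro _
      refine ⟨oks.2.2.2.2.2.2.2.2, ?_⟩
      rw [List.take_zero, List.map_nil, List.flatten_nil, List.map_nil, List.prod_nil, map_one, Units.val_one]
      unfold midOf md
      exact dec_one
    | succ k ih =>
      intro hk
      obtain ⟨h1, h2⟩ := ih (by omega)
      have h := segs_ok hi (show k < (partOf i).length by omega)
      simp only [segOK, Bool.and_eq_true] at h
      refine ⟨h.1, ?_⟩
      obtain ⟨R, hR1, -, hR3⟩ := mulWord_spec _ _ _ h1 h.2
      rw [eqList_spec _ _ hR1] at hR3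
      rw [hR3, h2, List.getD_eq_getElem _ _ (show k < (partOf i).length by omega), ← Units.val_mul, ← map_mul,
        List.take_add_one, List.getElem?_eq_getElem (show k < (partOf i).length by omega)]
      simp only [Option.toList_some, List.map_append, List.flatten_append, List.map_cons, List.map_nil,
        List.flatten_cons, List.flatten_nil, List.append_nil, List.prod_append]
  have hl := List.all_eq_true.1 lasts_ok i (List.mem_range.2 hi)
  simp only [lastOK, Bool.and_eq_true] at hl
  refine ⟨hl.1, ?_⟩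
  rw [← eqList_spec _ _ hl.2, (key _ le_rfl).2, List.take_length]
  rfl

theorem eq_of_md {A B : List ℕ} (hA : ok 19 133 A = true) (hB : ok 19 133 B = true) (h : md A = md B) :
    A = B := by
  refine List.ext_getElem (by rw [length_of_ok hA, length_of_ok hB]) fun k hk hk' => ?_
  have hk133 : k < 133 := length_of_ok hA ▸ hk
  rw [← List.getD_eq_getElem _ 0 hk, ← List.getD_eq_getElem _ 0 hk', ← row_of_ok hA hk133,
    ← row_of_ok hB hk133, red_eq, red_eq]
  refine Finset.sum_congr rfl fun l hl => ?_
  have e := congrFun (congrFun h ⟨k, hk133⟩) ⟨l, Finset.mem_range.1 hl⟩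
  unfold md dec at e
  rw [ZMod.natCast_eq_natCast_iff'] at e
  rw [e]

theorem elt0_ne : el 0 ≠ 1 := by
  intro hel
  obtain ⟨o0, he⟩ := elt_spec (i := 0) (by norm_num)
  rw [hel, map_one, Units.val_one] at he
  have h1 : ok 19 133 (PackedMatrix.one 133) = true := oks.2.2.2.2.2.2.2.2
  have : eltOf 0 = PackedMatrix.one 133 := eq_of_md o0 h1 (by rw [← he]; unfold md; rw [dec_one])
  have hne := elt_ne_one
  rw [this, eqList_refl] at hne
  exact Bool.noConfusion hne

theorem rho_injective : Function.Injective rho := by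
  rw [← MonoidHom.ker_eq_bot_iff]
  have := isSimple_HN
  refine (rho.normal_ker.eq_bot_or_eq_top).resolve_right fun h => ?_
  have h0 : rho (el 0) = 1 := MonoidHom.mem_ker.1 (h ▸ Subgroup.mem_top _)
  obtain ⟨o0, e⟩ := elt_spec (i := 0) (by norm_num)
  rw [h0, Units.val_one] at e
  have h1 : ok 19 133 (PackedMatrix.one 133) = true := oks.2.2.2.2.2.2.2.2
  have : eltOf 0 = PackedMatrix.one 133 := eq_of_md o0 h1 (by rw [← e]; unfold md; rw [dec_one])
  have hne := elt_ne_one
  rw [this, eqList_refl] at hne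
  exact Bool.noConfusion hne

theorem rel_spec {i : ℕ} (hi : i < 10) :
    el i ^ 3 = 1 ∧ ∀ j < 10, i < j → (el i * el j) ^ 2 = 1 := by
  have h : relOK i = true := by
    rcases lt_or_ge i 2 with h2 | h2
    · exact all_range rels_okA (by omega) (by omega)
    rcases lt_or_ge i 5 with h5 | h5
    · exact all_range rels_okB h2 (by omega)
    · exact all_range rels_okC h5 (by omega)
  simp only [relOK, Bool.and_eq_true, List.all_eq_true, List.mem_range, Bool.or_eq_true, Nat.ble_eq] at h
  obtain ⟨oi, ei⟩ := elt_spec hi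
  constructor
  · apply rho_injective
    apply Units.ext
    rw [map_pow, map_one, Units.val_pow_eq_pow_val, ei, Units.val_one]
    simpa using pow1_spec h.1 (by simpa using oi)
  · intro j hj hij
    obtain ⟨oj, ej⟩ := elt_spec hj
    apply rho_injective
    apply Units.ext
    rw [map_pow, map_mul, map_one, Units.val_pow_eq_pow_val, Units.val_mul, ei, ej, Units.val_one]
    simpa using pow1_spec ((h.2 j hj).resolve_left (by omega)) (by simp [oi, oj])

/-- The three-cycles through two fixed points. -/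
def cyc (i : Fin 10) : alternatingGroup (Fin 12) :=
  ⟨three 0 1 ⟨(i : ℕ) + 2, by omega⟩, Equiv.Perm.mem_alternatingGroup.2 (sign_three (by decide) (by
    intro e
    have := congrArg Fin.val e
    simp at this))⟩

theorem cyc_closure : Subgroup.closure (Set.range cyc) = ⊤ := by
  apply Subgroup.map_injective (alternatingGroup (Fin 12)).subtype_injective
  rw [← MonoidHom.range_eq_map, Subgroup.range_subtype, MonoidHom.map_closure]
  refine le_antisymm ((Subgroup.closure_le _).2 ?_) ?_
  · rintro _ ⟨c, -, rfl⟩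
    exact c.2
  refine le_trans (b := altOn (Finset.univ : Finset (Fin 12)))
    (fun g hg => ⟨Equiv.Perm.mem_alternatingGroup.1 hg, fun z hz => absurd (Finset.mem_univ z) hz⟩)
    (altOn_le_of_pivot (S := Finset.univ) (a := 0) (b := 1) (Finset.mem_univ _) (Finset.mem_univ _)
      (by decide) fun i _ h0 h1 => ?_)
  have hi : 2 ≤ (i : ℕ) := by
    rcases Nat.lt_or_ge (i : ℕ) 2 with h | h
    · interval_cases hv : (i : ℕ)
      · exact absurd (Fin.ext hv) h0
      · exact absurd (Fin.ext hv) h1
    · exact h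
  refine Subgroup.subset_closure ⟨cyc ⟨(i : ℕ) - 2, by omega⟩, ⟨_, rfl⟩, ?_⟩
  show three 0 1 _ = three 0 1 i
  congr 1
  exact Fin.ext (by simp only; omega)

theorem exists_embedding : ∃ ψ : alternatingGroup (Fin 12) →* HN, Function.Injective ψ := by
  classical
  let pr : Fin 10 → alternatingGroup (Fin 12) × HN := fun i => (cyc i, el i)
  let s : Finset (alternatingGroup (Fin 12) × HN) := Finset.univ.image pr
  have hA3 : ∀ i, cyc i ^ 3 = 1 := by decide +kernel
  have hA2 : ∀ i j, i ≠ j → (cyc i * cyc j) ^ 2 = 1 := by decide +kernel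
  have h3 : ∀ a ∈ s, a ^ 3 = 1 := by
    intro a ha
    obtain ⟨i, -, rfl⟩ := Finset.mem_image.1 ha
    exact Prod.ext (hA3 i) (rel_spec i.2).1
  have h2 : ∀ a ∈ s, ∀ b ∈ s, a ≠ b → (a * b) ^ 2 = 1 := by
    intro a ha b hb hab
    obtain ⟨i, -, rfl⟩ := Finset.mem_image.1 ha
    obtain ⟨j, -, rfl⟩ := Finset.mem_image.1 hb
    have hij : i ≠ j := fun e => hab (e ▸ rfl)
    refine Prod.ext (hA2 i j hij) ?_
    rcases lt_or_gt_of_ne hij with h | h
    · exact (rel_spec i.2).2 j j.2 h
    · exact sq_swap ((rel_spec j.2).2 i i.2 h)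
  obtain ⟨hfin, hle⟩ := closure_bound s ⟨pr 0, Finset.mem_image_of_mem _ (Finset.mem_univ _)⟩ h3 h2
  obtain ⟨Γ, hΓ⟩ : ∃ Γ, Γ = Subgroup.closure (s : Set (alternatingGroup (Fin 12) × HN)) := ⟨_, rfl⟩
  rw [← hΓ] at hfin hle
  let p : Γ →* alternatingGroup (Fin 12) := (MonoidHom.fst _ _).comp Γ.subtype
  have hsurj : Function.Surjective p := by
    rw [← MonoidHom.range_eq_top, MonoidHom.range_comp, Subgroup.range_subtype, hΓ, MonoidHom.map_closure,
      Finset.coe_image, Finset.coe_univ, Set.image_univ, ← Set.range_comp, eq_top_iff, ← cyc_closure]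
    exact le_of_eq rfl
  have hscard : s.card ≤ 10 := le_trans Finset.card_image_le (by simp)
  have hcA : 2 * Nat.card (alternatingGroup (Fin 12)) = (12 : ℕ).factorial := by
    rw [nat_card_alternatingGroup, Nat.card_eq_fintype_card, Fintype.card_fin]
    exact Nat.mul_div_cancel' (Nat.dvd_factorial (by norm_num) (by norm_num))
  have hbij : Function.Bijective p := (Nat.bijective_iff_surjective_and_card p).2 ⟨hsurj,
    le_antisymm (by
      have := hle.trans (Nat.factorial_le (by omega : s.card + 2 ≤ 12))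
      omega) (Nat.card_le_card_of_surjective p hsurj)⟩
  let e : Γ ≃* alternatingGroup (Fin 12) := MulEquiv.ofBijective p hbij
  let ψ : alternatingGroup (Fin 12) →* HN :=
    ((MonoidHom.snd _ HN).comp Γ.subtype).comp e.symm.toMonoidHom
  refine ⟨ψ, ?_⟩
  have hs : IsSimpleGroup (alternatingGroup (Fin 12)) := alternatingGroup.isSimpleGroup (by simp)
  rw [← MonoidHom.ker_eq_bot_iff]
  refine ψ.normal_ker.eq_bot_or_eq_top.resolve_right fun h => ?_
  let x0 : Γ := ⟨pr 0, hΓ ▸ Subgroup.subset_closure (Finset.mem_coe.2 (Finset.mem_image_of_mem _ (Finset.mem_univ _)))⟩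
  have h0 : ψ (e x0) = 1 := MonoidHom.mem_ker.1 (h ▸ Subgroup.mem_top _)
  have hel : el 0 = 1 := by
    change ((e.symm (e x0) : Γ) : alternatingGroup (Fin 12) × HN).2 = 1 at h0
    rwa [e.symm_apply_apply] at h0
  exact elt0_ne hel

theorem exists_perm_rep : ∃ H : Subgroup (Equiv.Perm (Fin 1140000)), Cfsg.IsHN H ∧
    MulAction.IsPretransitive H (Fin 1140000) ∧
    Nonempty (MulAction.stabilizer H (0 : Fin 1140000) ≃* alternatingGroup (Fin 12)) := by
  classical
  obtain ⟨ψ, hψ⟩ := exists_embedding
  have hfinHN : Finite HN := Nat.finite_of_card_ne_zero (by rw [card_HN]; norm_num)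
  have hK : Nat.card ψ.range = 239500800 := by
    rw [← Nat.card_congr (MonoidHom.ofInjective hψ).toEquiv, nat_card_alternatingGroup,
      Nat.card_eq_fintype_card, Fintype.card_fin]
    rfl
  have hidx : Nat.card (HN ⧸ ψ.range) = 1140000 := by
    have h := ψ.range.card_mul_index
    rw [hK, card_HN] at h
    exact Nat.eq_of_mul_eq_mul_left (by norm_num : 0 < 239500800) h
  let e0 : HN ⧸ ψ.range ≃ Fin 1140000 := Finite.equivFinOfCardEq hidx
  let e : HN ⧸ ψ.range ≃ Fin 1140000 := e0.trans (Equiv.swap (e0 ((1 : HN) : HN ⧸ ψ.range)) 0)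
  have he : e ((1 : HN) : HN ⧸ ψ.range) = 0 := Equiv.swap_apply_left _ _
  let π : HN →* Equiv.Perm (Fin 1140000) :=
    e.permCongrHom.toMonoidHom.comp (MulAction.toPermHom HN (HN ⧸ ψ.range))
  have hπ : ∀ g x, π g (e x) = e (g • x) := fun g x => by
    show e (g • e.symm (e x)) = _
    rw [e.symm_apply_apply]
  have hstab : ∀ g, π g 0 = 0 → g ∈ ψ.range := fun g h => by
    rw [← he, hπ] at h
    simpa [QuotientGroup.eq] using e.injective h
  have hsimp := isSimple_HN
  have hinj : Function.Injective π := by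
    rw [← MonoidHom.ker_eq_bot_iff]
    refine π.normal_ker.eq_bot_or_eq_top.resolve_right fun h => ?_
    have hall : (⊤ : Subgroup HN) ≤ ψ.range := fun g _ => hstab g (by
      rw [MonoidHom.mem_ker.1 (h ▸ Subgroup.mem_top g), Equiv.Perm.one_apply])
    have := Subgroup.card_le_of_le hall
    rw [Subgroup.card_top, card_HN, hK] at this
    omega
  let eH : HN ≃* π.range := MonoidHom.ofInjective hinj
  refine ⟨π.range, ⟨?_, ?_⟩, ?_, ⟨MulEquiv.symm ?_⟩⟩
  · have : Nontrivial π.range := eH.symm.toEquiv.nontrivial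
    exact IsSimpleGroup.isSimpleGroup_of_surjective eH.toMonoidHom eH.surjective
  · rw [← Nat.card_congr eH.toEquiv, card_HN]
  · refine ⟨fun a b => ?_⟩
    obtain ⟨g, hg⟩ := MulAction.exists_smul_eq HN (e.symm a) (e.symm b)
    refine ⟨eH g, ?_⟩
    show π g a = b
    rw [← e.apply_symm_apply a, hπ, hg, e.apply_symm_apply]
  · let f : alternatingGroup (Fin 12) →* MulAction.stabilizer π.range (0 : Fin 1140000) :=
      MonoidHom.codRestrict (eH.toMonoidHom.comp ψ) _ fun a => by
        show π (ψ a) 0 = 0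
        rw [← he, hπ]
        congr 1
        exact QuotientGroup.eq.2 (by simp)
    refine MulEquiv.ofBijective f ⟨fun a b h => hψ (eH.injective (congrArg Subtype.val h)), ?_⟩
    rintro ⟨⟨_, g, rfl⟩, hg⟩
    obtain ⟨a, rfl⟩ := hstab g hg
    exact ⟨a, rfl⟩

end CfsgLib.Sporadic.CosetCert.HNAlt
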